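import Mathlib
import Groth.Agent.Lib.Helper4.NormalizationField1

/-!
# Algebra for the normalization in a normal scheme with several components (helper2)
-/

set_option autoImplicit false
set_option backward.isDefEq.respectTransparency.types false
set_option synthInstance.maxHeartbeats 400000
set_option maxHeartbeats 4000000
set_option linter.style.haveILetI false
set_option linter.unusedSectionVars false
set_option linter.unusedVariables false

universe u
open Polynomial

namespace Groth.Agent.Helper2.NormY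

/-- passing from an integral closure to the corner cut out by an idempotent -/
theorem alg1 {A A' B A₁ B₁ : Type*} [CommRing A] [CommRing A'] [CommRing B] [CommRing A₁]
    [CommRing B₁] (α : A →+* A') (φ : A' →+* B) (ρ' : A' →+* A₁) (ρ : B →+* B₁) (φ₁ : A₁ →+* B₁)
    (hcomm : φ₁.comp ρ' = ρ.comp φ) (e' : A') (h4 : e' * e' = e')
    (h1 : Function.Injective φ)
    (h2 : ∀ b : B, (φ.comp α).IsIntegralElem b → ∃ a', φ a' = b)
    (h3 : α.IsIntegral)
    (h5a : Function.Surjective ρ') (h5c : ρ' e' = 1)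
    (h6a : Function.Surjective ρ) (h6b : ∀ b, ρ b = 0 → φ e' * b = 0) (h6c : ρ (φ e') = 1) :
    Function.Injective φ₁ ∧ ∀ b₁ : B₁, φ₁.IsIntegralElem b₁ → ∃ a₁, φ₁ a₁ = b₁ := by
  have hc : ∀ a', φ₁ (ρ' a') = ρ (φ a') := fun a' => congrArg (fun ψ => ψ a') hcomm
  constructor
  · rw [injective_iff_map_eq_zero]
    intro a₁ ha₁
    obtain ⟨a', rfl⟩ := h5a a₁
    rw [hc] at ha₁
    have k1 : φ (e' * a') = 0 := by rw [map_mul]; exact h6b _ ha₁
    have k2 : e' * a' = 0 := h1 (by rw [k1, map_zero])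
    calc ρ' a' = ρ' e' * ρ' a' := by rw [h5c, one_mul]
      _ = ρ' (e' * a') := (map_mul ρ' e' a').symm
      _ = 0 := by rw [k2, map_zero]
  · rintro b₁ ⟨p, hp, hpb⟩
    obtain ⟨q, hq, -, hqm⟩ := Polynomial.lifts_and_natDegree_eq_and_monic
      ((Polynomial.mem_lifts p).mpr (Polynomial.map_surjective ρ' h5a p)) hp
    obtain ⟨b₀, hb₀⟩ := h6a b₁
    set b := φ e' * b₀ with hb
    have hρb : ρ b = b₁ := by rw [hb, map_mul, h6c, one_mul, hb₀]
    have hE : ρ (eval₂ φ b q) = 0 := by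
      rw [Polynomial.hom_eval₂, hρb, ← hcomm, ← Polynomial.eval₂_map, hq]
      exact hpb
    have hE2 : φ e' * eval₂ φ b q = 0 := h6b _ hE
    have hE3 : b * eval₂ φ b q = 0 := by
      rw [hb, mul_assoc, mul_comm b₀, ← mul_assoc, hE2, zero_mul]
    have hint : φ.IsIntegralElem b := by
      refine ⟨X * q, Polynomial.monic_X.mul hqm, ?_⟩
      rw [Polynomial.eval₂_mul, Polynomial.eval₂_X, hE3]
    letI := α.toAlgebra
    letI := φ.toAlgebra
    letI := (φ.comp α).toAlgebra
    haveI : IsScalarTower A A' B := IsScalarTower.of_algebraMap_eq (fun _ => rfl)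
    haveI : Algebra.IsIntegral A A' := ⟨h3⟩
    have hint' : IsIntegral A b := isIntegral_trans (A := A') b hint
    obtain ⟨a', ha'⟩ := h2 b hint'
    refine ⟨ρ' a', ?_⟩
    rw [hc, ha', hρb]

/-- a ring embedded in a field and integrally closed there, through an intermediate ring -/
theorem alg2 {A₁ B₁ K : Type*} [CommRing A₁] [CommRing B₁] [Field K] (φ₁ : A₁ →+* B₁)
    (γ : B₁ →+* K) (hφ : Function.Injective φ₁) (hγ : Function.Injective γ)
    (hK : ∀ k : K, γ.IsIntegralElem k → ∃ b, γ b = k)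
    (hB : ∀ b : B₁, φ₁.IsIntegralElem b → ∃ a, φ₁ a = b) :
    ∃ _ : IsDomain A₁, IsIntegrallyClosed A₁ := by
  haveI hdom : IsDomain A₁ := (hγ.comp hφ).isDomain (γ.comp φ₁)
  letI : Algebra A₁ K := (γ.comp φ₁).toAlgebra
  haveI : IsIntegrallyClosedIn A₁ K := by
    rw [isIntegrallyClosedIn_iff]
    refine ⟨hγ.comp hφ, ?_⟩
    rintro x ⟨p, hp, hpx⟩
    have hpx' : eval₂ (γ.comp φ₁) x p = 0 := hpx
    obtain ⟨b, rfl⟩ := hK x ⟨p.map φ₁, hp.map φ₁, by rw [Polynomial.eval₂_map]; exact hpx'⟩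
    have hb : φ₁.IsIntegralElem b := by
      refine ⟨p, hp, hγ ?_⟩
      rw [Polynomial.hom_eval₂, map_zero]
      exact hpx'
    obtain ⟨a, rfl⟩ := hB b hb
    exact ⟨a, rfl⟩
  exact ⟨hdom, Groth.Agent.Lib.Helper4.NormalizationField1.isIntegrallyClosed_of_isIntegrallyClosedIn_field A₁ K⟩

end Groth.Agent.Helper2.NormY
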