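import Mathlib
import Groth.Agent.Lib.Helper6.Normal.Connected

/-!
# Topology of schemes with domain stalks and locally finite irreducible components (helper2)
-/

set_option autoImplicit false
set_option backward.isDefEq.respectTransparency.types false
set_option synthInstance.maxHeartbeats 400000
set_option maxHeartbeats 4000000
set_option linter.style.haveILetI false
set_option linter.unusedSectionVars false
set_option linter.unusedVariables false

universe u
open CategoryTheory CategoryTheory.Limits AlgebraicGeometry TopologicalSpace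

namespace Groth.Agent.Helper2.NormY

section Topo
variable {T : Type*} [TopologicalSpace T]

/-- a point whose closure is an irreducible component has no proper generalization -/
theorem eq_of_specializes_generic [T0Space T] {g z : T}
    (hg : closure ({g} : Set T) ∈ irreducibleComponents T) (hz : z ⤳ g) : z = g := by
  have hsub : closure ({g} : Set T) ⊆ closure ({z} : Set T) :=
    specializes_iff_closure_subset.mp hz
  have hirr : IsIrreducible (closure ({z} : Set T)) := isIrreducible_singleton.closure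
  have heq : closure ({g} : Set T) = closure ({z} : Set T) :=
    Maximal.eq_of_subset hg hirr hsub
  exact ((inseparable_iff_closure_eq.mpr heq).eq).symm

/-- every point has a generalization whose closure is an irreducible component -/
theorem exists_generic_specializes [QuasiSober T] (y : T) :
    ∃ g : T, closure ({g} : Set T) ∈ irreducibleComponents T ∧ g ⤳ y := by
  have hZ := irreducibleComponent_mem_irreducibleComponents y
  have hgen : IsGenericPoint hZ.1.genericPoint (irreducibleComponent y) :=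
    hZ.1.isGenericPoint_genericPoint isClosed_irreducibleComponent
  refine ⟨hZ.1.genericPoint, ?_, hgen.specializes mem_irreducibleComponent⟩
  rw [hgen.def]
  exact hZ

/-- an irreducible component is the closure of a point -/
theorem exists_generic_of_mem_irreducibleComponents [QuasiSober T] {Z : Set T}
    (hZ : Z ∈ irreducibleComponents T) :
    ∃ g : T, closure ({g} : Set T) = Z := by
  have hgen : IsGenericPoint hZ.1.genericPoint Z :=
    hZ.1.isGenericPoint_genericPoint (isClosed_of_mem_irreducibleComponents Z hZ)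
  exact ⟨hZ.1.genericPoint, hgen.def⟩

end Topo

section Sch
variable {Y : Scheme.{u}}

/-- two irreducible components through a point with domain stalk coincide -/
theorem component_unique (hY : ∀ y : Y, IsDomain (Y.presheaf.stalk y)) {Z₁ Z₂ : Set Y}
    (h₁ : Z₁ ∈ irreducibleComponents Y) (h₂ : Z₂ ∈ irreducibleComponents Y) (y : Y)
    (hy₁ : y ∈ Z₁) (hy₂ : y ∈ Z₂) : Z₁ = Z₂ := by
  obtain ⟨g₁, hg₁⟩ := exists_generic_of_mem_irreducibleComponents h₁
  obtain ⟨g₂, hg₂⟩ := exists_generic_of_mem_irreducibleComponents h₂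
  have hs₁ : g₁ ⤳ y := by rw [specializes_iff_mem_closure, hg₁]; exact hy₁
  have hs₂ : g₂ ⤳ y := by rw [specializes_iff_mem_closure, hg₂]; exact hy₂
  haveI := hY y
  obtain ⟨g₀, h01, h02⟩ := Groth.Agent.Lib.Helper6.Normal.exists_common_generization y hs₁ hs₂
  have e1 : g₀ = g₁ := eq_of_specializes_generic (by rw [hg₁]; exact h₁) h01
  have e2 : g₀ = g₂ := eq_of_specializes_generic (by rw [hg₂]; exact h₂) h02
  rw [← hg₁, ← hg₂, ← e1, ← e2]

/-- irreducible components are open when they are locally finite and the stalks are domains -/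
theorem isOpen_component (hY : ∀ y : Y, IsDomain (Y.presheaf.stalk y))
    (hfin : LocallyFinite (fun Z : ↥(irreducibleComponents ↥Y) => (Z : Set ↥Y)))
    {Z : Set Y} (hZ : Z ∈ irreducibleComponents Y) : IsOpen Z := by
  rw [isOpen_iff_mem_nhds]
  intro y hyZ
  obtain ⟨t, ht, hF⟩ := hfin y
  set F := {i : ↥(irreducibleComponents ↥Y) | ((i : Set Y) ∩ t).Nonempty} with hFdef
  let F' := {i ∈ F | y ∉ (i : Set Y)}
  have hF' : F'.Finite := hF.subset (Set.sep_subset _ _)
  have hN : (t ∩ ⋂ i ∈ F', ((i : Set Y))ᶜ) ∈ nhds y := by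
    refine Filter.inter_mem ht ((Filter.biInter_mem hF').mpr fun i hi => ?_)
    exact (isClosed_of_mem_irreducibleComponents i.1 i.2).isOpen_compl.mem_nhds hi.2
  refine Filter.mem_of_superset hN ?_
  rintro w ⟨hwt, hw⟩
  have hZw := irreducibleComponent_mem_irreducibleComponents w
  have hwZw : w ∈ irreducibleComponent w := mem_irreducibleComponent
  have hyZw : y ∈ irreducibleComponent w := by
    by_contra hcon
    have hmem : (⟨irreducibleComponent w, hZw⟩ : ↥(irreducibleComponents ↥Y)) ∈ F' :=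
      ⟨⟨w, hwZw, hwt⟩, hcon⟩
    have := Set.mem_iInter₂.mp hw _ hmem
    exact this hwZw
  rw [component_unique hY hZ hZw y hyZ hyZw]
  exact hwZw

end Sch


section Glue
variable (Y : Scheme.{u}) (V O₁ O₂ : Y.Opens) (h₁ : O₁ ≤ V) (h₂ : O₂ ≤ V)
  (hbot : O₁ ⊓ O₂ = ⊥) (hcov : V ≤ O₁ ⊔ O₂)

include hcov in
theorem eq_of_res_eq (a b : Γ(Y, V))
    (e₁ : Y.presheaf.map (homOfLE h₁).op a = Y.presheaf.map (homOfLE h₁).op b)
    (e₂ : Y.presheaf.map (homOfLE h₂).op a = Y.presheaf.map (homOfLE h₂).op b) : a = b := by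
  let 𝒰 : Bool → Y.Opens := fun b => if b then O₁ else O₂
  have hle : ∀ b : Bool, 𝒰 b ≤ V := fun b => by cases b <;> simp [𝒰, h₁, h₂]
  have hcover : V ≤ iSup 𝒰 := by
    intro y hy
    rcases hcov hy with h | h
    · exact Opens.mem_iSup.mpr ⟨true, h⟩
    · exact Opens.mem_iSup.mpr ⟨false, h⟩
  refine Y.sheaf.eq_of_locally_eq' 𝒰 V (fun b => homOfLE (hle b)) hcover a b ?_
  intro b
  cases b
  · exact e₂
  · exact e₁

include hbot hcov in
theorem exists_glue (c₁ : Γ(Y, O₁)) (c₂ : Γ(Y, O₂)) :
    ∃ b : Γ(Y, V), Y.presheaf.map (homOfLE h₁).op b = c₁ ∧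
      Y.presheaf.map (homOfLE h₂).op b = c₂ := by
  let 𝒰 : Bool → Y.Opens := fun b => if b then O₁ else O₂
  have hle : ∀ b : Bool, 𝒰 b ≤ V := fun b => by cases b <;> simp [𝒰, h₁, h₂]
  have hcover : V ≤ iSup 𝒰 := by
    intro y hy
    rcases hcov hy with h | h
    · exact Opens.mem_iSup.mpr ⟨true, h⟩
    · exact Opens.mem_iSup.mpr ⟨false, h⟩
  let sf : ∀ b : Bool, Γ(Y, 𝒰 b) := fun b => match b with
    | true => c₁
    | false => c₂
  have hsub : ∀ b b' : Bool, b ≠ b' → Subsingleton Γ(Y, 𝒰 b ⊓ 𝒰 b') := by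
    intro b b' hne
    have : 𝒰 b ⊓ 𝒰 b' = ⊥ := by
      cases b <;> cases b' <;> simp_all [𝒰, inf_comm]
    rw [this]
    infer_instance
  have hcompat : TopCat.Presheaf.IsCompatible Y.presheaf 𝒰 sf := by
    intro b b'
    by_cases hbb : b = b'
    · subst hbb
      rfl
    · haveI := hsub b b' hbb
      exact Subsingleton.elim _ _
  obtain ⟨e, he, -⟩ := Y.sheaf.existsUnique_gluing' (U := 𝒰) V (fun b => homOfLE (hle b))
    hcover sf hcompat
  exact ⟨e, he true, he false⟩

include h₂ hbot hcov in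
/-- the idempotent of a clopen piece -/
theorem exists_idem :
    ∃ e : Γ(Y, V), e * e = e ∧ Y.basicOpen e = O₁ ∧ Y.basicOpen (1 - e) = O₂ ∧
      Y.presheaf.map (homOfLE h₁).op e = 1 ∧
      (∀ b : Γ(Y, V), Y.presheaf.map (homOfLE h₁).op b = 0 → e * b = 0) ∧
      Function.Surjective (Y.presheaf.map (homOfLE h₁).op).hom := by
  obtain ⟨e, he1, he2⟩ := exists_glue Y V O₁ O₂ h₁ h₂ hbot hcov 1 0
  have hbo : ∀ a : Γ(Y, V), Y.presheaf.map (homOfLE h₁).op a = 1 →
      Y.presheaf.map (homOfLE h₂).op a = 0 → Y.basicOpen a = O₁ := by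
    intro a ha1 ha2
    have k1 : O₁ ⊓ Y.basicOpen a = O₁ := by
      rw [← Y.basicOpen_res a (homOfLE h₁).op, ha1, Scheme.basicOpen_one]
    have k2 : O₂ ⊓ Y.basicOpen a = ⊥ := by
      rw [← Y.basicOpen_res a (homOfLE h₂).op, ha2, Scheme.basicOpen_zero]
    apply le_antisymm
    · intro y hy
      have hyV : y ∈ V := Y.basicOpen_le a hy
      rcases hcov hyV with h | h
      · exact h
      · have : y ∈ O₂ ⊓ Y.basicOpen a := ⟨h, hy⟩
        rw [k2] at this
        exact absurd this (by simp)
    · intro y hy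
      have : y ∈ O₁ ⊓ Y.basicOpen a := by rw [k1]; exact hy
      exact this.2
  have hbo' : ∀ a : Γ(Y, V), Y.presheaf.map (homOfLE h₁).op a = 0 →
      Y.presheaf.map (homOfLE h₂).op a = 1 → Y.basicOpen a = O₂ := by
    intro a ha1 ha2
    have k1 : O₂ ⊓ Y.basicOpen a = O₂ := by
      rw [← Y.basicOpen_res a (homOfLE h₂).op, ha2, Scheme.basicOpen_one]
    have k2 : O₁ ⊓ Y.basicOpen a = ⊥ := by
      rw [← Y.basicOpen_res a (homOfLE h₁).op, ha1, Scheme.basicOpen_zero]
    apply le_antisymm
    · intro y hy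
      have hyV : y ∈ V := Y.basicOpen_le a hy
      rcases hcov hyV with h | h
      · have : y ∈ O₁ ⊓ Y.basicOpen a := ⟨h, hy⟩
        rw [k2] at this
        exact absurd this (by simp)
      · exact h
    · intro y hy
      have : y ∈ O₂ ⊓ Y.basicOpen a := by rw [k1]; exact hy
      exact this.2
  refine ⟨e, ?_, hbo e he1 he2, ?_, he1, ?_, ?_⟩
  · apply eq_of_res_eq Y V O₁ O₂ h₁ h₂ hcov
    · rw [map_mul, he1, mul_one]
    · rw [map_mul, he2, mul_zero]
  · apply hbo'
    · rw [map_sub, map_one, he1, sub_self]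
    · rw [map_sub, map_one, he2, sub_zero]
  · intro b hb
    apply eq_of_res_eq Y V O₁ O₂ h₁ h₂ hcov
    · rw [map_mul, hb, mul_zero, map_zero]
    · rw [map_mul, he2, zero_mul, map_zero]
  · intro c
    obtain ⟨b, hb, -⟩ := exists_glue Y V O₁ O₂ h₁ h₂ hbot hcov c 0
    exact ⟨b, hb⟩

end Glue

end Groth.Agent.Helper2.NormY
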