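import Mathlib
import Groth.Prelude.Def_Pi1
import Groth.Agent.Lib.Helper2.NormY.Topo
import Groth.Agent.Lib.Helper2.NormY.Alg
import Groth.Agent.Lib.Helper2.Norm.SmoothField
import Groth.Agent.Lib.Helper2.Norm.UnivMain
import Groth.Agent.Lib.Helper4.NormalizationField3
import Groth.Agent.Lib.Helper7.GeomConn.NormalGlue

/-!
# The normalization of a scheme in a normal scheme with locally finite irreducible components
(helper2)
-/

set_option autoImplicit false
set_option backward.isDefEq.respectTransparency.types false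
set_option synthInstance.maxHeartbeats 400000
set_option maxHeartbeats 4000000
set_option linter.style.haveILetI false
set_option linter.unusedSectionVars false
set_option linter.unusedVariables false

universe u
open CategoryTheory CategoryTheory.Limits AlgebraicGeometry TopologicalSpace
open Groth.Agent.Lib.Helper4.NormalizationField3

namespace Groth.Agent.Helper2.NormY

/-- sections over an irreducible open of a normal scheme embed in a field, with integrally closed
image -/
theorem exists_field_embedding {Y : Scheme.{u}} (hY : Pi1.IsNormalScheme Y) (O : Y.Opens)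
    (hne : (O : Set Y).Nonempty) (hirr : IsPreirreducible (O : Set Y)) :
    ∃ (K : Type u) (_ : Field K) (γ : Γ(Y, O) →+* K), Function.Injective γ ∧
      ∀ k : K, γ.IsIntegralElem k → ∃ b, γ b = k := by
  haveI : IsReduced Y := Groth.Agent.Helper2.NormField.isReduced_of_isNormalScheme hY
  haveI : IrreducibleSpace ↥(O.toScheme) := Subtype.irreducibleSpace ⟨hne, hirr⟩
  haveI : IsReduced O.toScheme := isReduced_of_isOpenImmersion O.ι
  haveI : IsIntegral O.toScheme := isIntegral_of_irreducibleSpace_of_isReduced _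
  have hT : Pi1.IsNormalScheme O.toScheme :=
    Groth.Agent.Helper2.NormUniv.normal_of_isOpenImmersion O.ι hY
  haveI : Nonempty (⊤ : O.toScheme.Opens) := ⟨⟨genericPoint O.toScheme, trivial⟩⟩
  refine ⟨O.toScheme.functionField, inferInstance,
    (O.topIso.inv ≫ O.toScheme.germToFunctionField ⊤).hom, ?_, ?_⟩
  · rw [CommRingCat.hom_comp]
    exact (Scheme.germToFunctionField_injective O.toScheme ⊤).comp
      ((ConcreteCategory.bijective_of_isIso O.topIso.inv).1)
  · rintro k ⟨p, hp, hpk⟩
    have hint : IsIntegral Γ(O.toScheme, ⊤) k := by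
      refine ⟨p.map O.topIso.inv.hom, hp.map _, ?_⟩
      rw [Polynomial.eval₂_map]
      exact hpk
    obtain ⟨a, ha⟩ := Groth.Agent.Helper7.GeomConn.NG.exists_section_of_isIntegral
      (fun t => (hT t).2) ⊤ k hint
    refine ⟨O.topIso.hom.hom a, ?_⟩
    rw [CommRingCat.hom_comp, RingHom.comp_apply]
    have : O.topIso.inv.hom (O.topIso.hom.hom a) = a := by
      have := congrArg (fun ψ => ψ.hom a) O.topIso.hom_inv_id
      simpa using this
    rw [this]
    exact ha


section Local
variable {X Y : Scheme.{u}} (f : Y ⟶ X) [QuasiCompact f] [QuasiSeparated f]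

/-- the map on sections over the preimages of an open of the base -/
noncomputable abbrev phi (U : X.Opens) :
    Γ(f.normalization, f.fromNormalization ⁻¹ᵁ U) →+* Γ(Y, f ⁻¹ᵁ U) :=
  (f.toNormalization.appLE (f.fromNormalization ⁻¹ᵁ U) (f ⁻¹ᵁ U)
    (toNormalization_preimage_le f U)).hom

theorem preimage_eq (U : X.Opens) :
    f.toNormalization ⁻¹ᵁ f.fromNormalization ⁻¹ᵁ U = f ⁻¹ᵁ U := by
  rw [← Scheme.Hom.comp_preimage, Scheme.Hom.toNormalization_fromNormalization]

theorem phi_injective {U : X.Opens} (hU : IsAffineOpen U) : Function.Injective (phi f U) := by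
  letI alg : Algebra Γ(X, U) Γ(Y, f ⁻¹ᵁ U) := (f.app U).hom.toAlgebra
  have h1 := f.normalizationObjIso_hom_val hU
  intro a b hab
  have ha := congrArg (fun ψ => ψ.hom a) h1
  have hb := congrArg (fun ψ => ψ.hom b) h1
  simp only [CommRingCat.hom_comp, RingHom.coe_comp, Function.comp_apply] at ha hb
  have hab' : (f.normalizationObjIso hU).hom.hom a = (f.normalizationObjIso hU).hom.hom b := by
    apply Subtype.val_injective
    exact ha.trans (hab.trans hb.symm)
  exact (ConcreteCategory.bijective_of_isIso (f.normalizationObjIso hU).hom).1 hab'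

theorem basicOpen_phi (U : X.Opens) (a' : Γ(f.normalization, f.fromNormalization ⁻¹ᵁ U)) :
    Y.basicOpen (phi f U a') = f.toNormalization ⁻¹ᵁ (f.normalization.basicOpen a') := by
  have h1 : phi f U a' = (Y.presheaf.map (homOfLE (toNormalization_preimage_le f U)).op).hom
      ((f.toNormalization.app (f.fromNormalization ⁻¹ᵁ U)).hom a') := rfl
  rw [h1]
  erw [Scheme.basicOpen_res]
  rw [← Scheme.preimage_basicOpen]
  apply le_antisymm inf_le_right
  refine le_inf ?_ le_rfl
  rw [← preimage_eq f U]
  exact Scheme.Hom.preimage_mono _ (f.normalization.basicOpen_le a')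


/-- the idempotent cutting out an irreducible component, lifted to the normalization -/
theorem key (hY : Pi1.IsNormalScheme Y)
    (hfin : LocallyFinite (fun Z : ↥(irreducibleComponents ↥Y) => (Z : Set ↥Y)))
    {U : X.Opens} (hU : IsAffineOpen U) (η : Y)
    (hη : closure ({η} : Set Y) ∈ irreducibleComponents Y) :
    ∃ e' : Γ(f.normalization, f.fromNormalization ⁻¹ᵁ U), e' * e' = e' ∧
      ((Y.basicOpen (phi f U e') : Y.Opens) : Set Y) =
        ((f ⁻¹ᵁ U : Y.Opens) : Set Y) ∩ closure {η} ∧
      ((Y.basicOpen (phi f U (1 - e')) : Y.Opens) : Set Y) =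
        ((f ⁻¹ᵁ U : Y.Opens) : Set Y) ∩ (closure {η})ᶜ ∧
      (Y.presheaf.map (homOfLE (Y.basicOpen_le (phi f U e'))).op).hom (phi f U e') = 1 ∧
      (∀ b : Γ(Y, f ⁻¹ᵁ U),
        (Y.presheaf.map (homOfLE (Y.basicOpen_le (phi f U e'))).op).hom b = 0 →
          phi f U e' * b = 0) ∧
      Function.Surjective (Y.presheaf.map (homOfLE (Y.basicOpen_le (phi f U e'))).op).hom := by
  have hopen : IsOpen (closure ({η} : Set Y)) :=
    isOpen_component (fun y => (hY y).1) hfin hη
  let Zo : Y.Opens := ⟨closure {η}, hopen⟩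
  let Zc : Y.Opens := ⟨(closure {η})ᶜ, isClosed_closure.isOpen_compl⟩
  let V : Y.Opens := f ⁻¹ᵁ U
  let O₁ : Y.Opens := V ⊓ Zo
  let O₂ : Y.Opens := V ⊓ Zc
  have hbot : O₁ ⊓ O₂ = ⊥ := by
    ext y
    simp only [Opens.coe_inf, Opens.coe_bot, Set.mem_inter_iff, Set.mem_empty_iff_false,
      iff_false]
    rintro ⟨⟨-, h1⟩, -, h2⟩
    exact h2 h1
  have hcov : V ≤ O₁ ⊔ O₂ := by
    intro y hy
    by_cases h : y ∈ closure ({η} : Set Y)
    · exact Or.inl ⟨hy, h⟩
    · exact Or.inr ⟨hy, h⟩
  obtain ⟨e, hee, hbo1, hbo2, hres1, hker, hsurj⟩ :=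
    exists_idem Y V O₁ O₂ inf_le_left inf_le_left hbot hcov
  -- `e` is integral
  have hint : (f.app U).hom.IsIntegralElem e := by
    refine ⟨Polynomial.X * (Polynomial.X - Polynomial.C 1),
      Polynomial.monic_X.mul (Polynomial.monic_X_sub_C 1), ?_⟩
    rw [Polynomial.eval₂_mul, Polynomial.eval₂_X, Polynomial.eval₂_sub, Polynomial.eval₂_X,
      Polynomial.eval₂_C, map_one, mul_sub, mul_one, hee, sub_self]
  obtain ⟨e', he'⟩ := exists_section_normalization_of_isIntegral f hU e hint
  have he'' : phi f U e' = e := he'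
  have hgen : ∀ (O : Y.Opens) (hO : O = O₁) (hle : O ≤ V),
      (Y.presheaf.map (homOfLE hle).op).hom e = 1 ∧
      (∀ b : Γ(Y, V), (Y.presheaf.map (homOfLE hle).op).hom b = 0 → e * b = 0) ∧
      Function.Surjective (Y.presheaf.map (homOfLE hle).op).hom := by
    intro O hO hle
    subst hO
    exact ⟨hres1, hker, hsurj⟩
  refine ⟨e', ?_, ?_, ?_, ?_⟩
  · apply phi_injective f hU
    rw [map_mul, he'', hee]
  · rw [he'', hbo1]
    rfl
  · rw [map_sub, map_one, he'', hbo2]
    rfl
  · have := hgen (Y.basicOpen (phi f U e')) (by rw [he'', hbo1]) (Y.basicOpen_le _)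
    rw [he''] at this ⊢
    exact this


/-- a specialization (inside the affine piece) of the image of the generic point of a component
lies in the basic open of the corresponding idempotent -/
theorem mem_basicOpen_of_specializes {U : X.Opens} (η : Y) (hηU : η ∈ f ⁻¹ᵁ U)
    (e' : Γ(f.normalization, f.fromNormalization ⁻¹ᵁ U))
    (h2 : ((Y.basicOpen (phi f U (1 - e')) : Y.Opens) : Set Y) =
        ((f ⁻¹ᵁ U : Y.Opens) : Set Y) ∩ (closure {η})ᶜ)
    (x' : f.normalization) (hx' : x' ∈ f.fromNormalization ⁻¹ᵁ U)
    (hsp : f.toNormalization η ⤳ x') : x' ∈ f.normalization.basicOpen e' := by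
  have hsum : f.normalization.basicOpen (e' + (1 - e')) ≤
      f.normalization.basicOpen e' ⊔ f.normalization.basicOpen (1 - e') :=
    f.normalization.basicOpen_add_le e' (1 - e')
  rw [add_sub_cancel, Scheme.basicOpen_one] at hsum
  rcases hsum hx' with h | h
  · exact h
  · exfalso
    have h3 : f.toNormalization η ∈ f.normalization.basicOpen (1 - e') :=
      hsp.mem_open (f.normalization.basicOpen (1 - e')).isOpen h
    have h4 : η ∈ ((Y.basicOpen (phi f U (1 - e')) : Y.Opens) : Set Y) := by
      rw [basicOpen_phi]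
      exact h3
    rw [h2] at h4
    exact h4.2 (subset_closure rfl)

/-- every generic point of the normalization is the image of a generic point of the source -/
theorem exists_generic_lift
    (hfin : LocallyFinite (fun Z : ↥(irreducibleComponents ↥Y) => (Z : Set ↥Y)))
    (x' : f.normalization)
    (hx' : closure ({x'} : Set f.normalization) ∈ irreducibleComponents f.normalization) :
    ∃ η : Y, closure ({η} : Set Y) ∈ irreducibleComponents Y ∧ f.toNormalization η = x' := by
  obtain ⟨U, hU, hxU, -⟩ := exists_isAffineOpen_mem_and_subset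
    (x := f.fromNormalization x') (U := ⊤) trivial
  let W' : f.normalization.Opens := f.fromNormalization ⁻¹ᵁ U
  have hW' : IsAffineOpen W' := hU.preimage f.fromNormalization
  have hVc : IsCompact ((f.toNormalization ⁻¹ᵁ W' : Y.Opens) : Set Y) :=
    f.toNormalization.isCompact_preimage hW'.isCompact
  set S := {i : ↥(irreducibleComponents ↥Y) |
    ((i : Set Y) ∩ ((f.toNormalization ⁻¹ᵁ W' : Y.Opens) : Set Y)).Nonempty} with hS
  have hSfin : S.Finite := hfin.finite_nonempty_inter_compact hVc
  let C : Set f.normalization := ⋃ i ∈ S, closure (f.toNormalization '' (i : Set Y))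
  have hC : IsClosed C := hSfin.isClosed_biUnion fun i _ => isClosed_closure
  have himg : f.toNormalization '' ((f.toNormalization ⁻¹ᵁ W' : Y.Opens) : Set Y) ⊆ C := by
    rintro _ ⟨y, hy, rfl⟩
    have hZy := irreducibleComponent_mem_irreducibleComponents y
    refine Set.mem_iUnion₂.mpr ⟨⟨irreducibleComponent y, hZy⟩, ?_, ?_⟩
    · exact ⟨y, mem_irreducibleComponent, hy⟩
    · exact subset_closure ⟨y, mem_irreducibleComponent, rfl⟩
  have hxcl : x' ∈ closure (f.toNormalization ''
      ((f.toNormalization ⁻¹ᵁ W' : Y.Opens) : Set Y)) := by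
    have h1 : (W' : Set f.normalization) ∩ closure (Set.range f.toNormalization) ⊆
        closure ((W' : Set f.normalization) ∩ Set.range f.toNormalization) :=
      W'.isOpen.inter_closure
    have h2 : closure (Set.range f.toNormalization) = Set.univ :=
      f.toNormalization.denseRange.closure_range
    have h3 : (W' : Set f.normalization) ∩ Set.range f.toNormalization =
        f.toNormalization '' ((f.toNormalization ⁻¹ᵁ W' : Y.Opens) : Set Y) :=
      (Set.image_preimage_eq_inter_range).symm
    rw [h2, Set.inter_univ, h3] at h1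
    exact h1 hxU
  have hxC : x' ∈ C := closure_minimal himg hC hxcl
  obtain ⟨i, hiS, hxi⟩ := Set.mem_iUnion₂.mp hxC
  obtain ⟨η, hηi⟩ := exists_generic_of_mem_irreducibleComponents i.2
  refine ⟨η, by rw [hηi]; exact i.2, ?_⟩
  have h5 : closure (f.toNormalization '' (i : Set Y)) ⊆
      closure ({f.toNormalization η} : Set f.normalization) := by
    apply closure_minimal _ isClosed_closure
    rw [← hηi]
    have := image_closure_subset_closure_image (s := ({η} : Set Y))
      f.toNormalization.continuous
    rwa [Set.image_singleton] at this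
  have hsp : f.toNormalization η ⤳ x' := specializes_iff_mem_closure.mpr (h5 hxi)
  exact eq_of_specializes_generic hx' hsp


theorem mem_preimage_iff (U : X.Opens) (y : Y) :
    y ∈ f ⁻¹ᵁ U ↔ f.toNormalization y ∈ f.fromNormalization ⁻¹ᵁ U := by
  rw [← preimage_eq f U]
  rfl

theorem closure_image_closure (η : Y) :
    closure (f.toNormalization '' closure ({η} : Set Y)) =
      closure ({f.toNormalization η} : Set f.normalization) := by
  apply subset_antisymm
  · apply closure_minimal _ isClosed_closure
    have := image_closure_subset_closure_image (s := ({η} : Set Y))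
      f.toNormalization.continuous
    rwa [Set.image_singleton] at this
  · apply closure_mono
    rw [Set.singleton_subset_iff]
    exact ⟨η, subset_closure rfl, rfl⟩

/-- generic points map to generic points -/
theorem generic_map (hY : Pi1.IsNormalScheme Y)
    (hfin : LocallyFinite (fun Z : ↥(irreducibleComponents ↥Y) => (Z : Set ↥Y)))
    (y : Y) (hy : closure ({y} : Set Y) ∈ irreducibleComponents Y) :
    closure ({f.toNormalization y} : Set f.normalization) ∈
      irreducibleComponents f.normalization := by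
  obtain ⟨g', hg', hsp⟩ := exists_generic_specializes (f.toNormalization y)
  obtain ⟨η, hη, hιη⟩ := exists_generic_lift f hfin g' hg'
  obtain ⟨U, hU, hxU, -⟩ := exists_isAffineOpen_mem_and_subset
    (x := f.fromNormalization (f.toNormalization y)) (U := ⊤) trivial
  have hx'W : f.toNormalization y ∈ f.fromNormalization ⁻¹ᵁ U := hxU
  have hg'W : g' ∈ f.fromNormalization ⁻¹ᵁ U :=
    hsp.mem_open (f.fromNormalization ⁻¹ᵁ U).isOpen hx'W
  have hηV : η ∈ f ⁻¹ᵁ U := by rw [mem_preimage_iff, hιη]; exact hg'W
  have hyV : y ∈ f ⁻¹ᵁ U := by rw [mem_preimage_iff]; exact hx'W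
  obtain ⟨e', -, h1, h2, -⟩ := key f hY hfin hU η hη
  have hxe : f.toNormalization y ∈ f.normalization.basicOpen e' :=
    mem_basicOpen_of_specializes f η hηV e' h2 _ hx'W (by rw [hιη]; exact hsp)
  have hy1 : y ∈ ((Y.basicOpen (phi f U e') : Y.Opens) : Set Y) := by
    rw [basicOpen_phi]; exact hxe
  rw [h1] at hy1
  have hηy : η ⤳ y := specializes_iff_mem_closure.mpr hy1.2
  have : η = y := eq_of_specializes_generic hy hηy
  rw [← this, hιη]
  exact hg'

/-- at most one generic point over a generic point -/
theorem generic_unique (hY : Pi1.IsNormalScheme Y)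
    (hfin : LocallyFinite (fun Z : ↥(irreducibleComponents ↥Y) => (Z : Set ↥Y)))
    (η₁ η₂ : Y) (h₁ : closure ({η₁} : Set Y) ∈ irreducibleComponents Y)
    (h₂ : closure ({η₂} : Set Y) ∈ irreducibleComponents Y)
    (h : f.toNormalization η₁ = f.toNormalization η₂) : η₁ = η₂ := by
  obtain ⟨U, hU, hxU, -⟩ := exists_isAffineOpen_mem_and_subset
    (x := f.fromNormalization (f.toNormalization η₁)) (U := ⊤) trivial
  have h1V : η₁ ∈ f ⁻¹ᵁ U := by rw [mem_preimage_iff]; exact hxU
  have h2V : η₂ ∈ f ⁻¹ᵁ U := by rw [mem_preimage_iff, ← h]; exact hxU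
  obtain ⟨e', -, k1, -, -⟩ := key f hY hfin hU η₁ h₁
  have m1 : η₁ ∈ ((Y.basicOpen (phi f U e') : Y.Opens) : Set Y) := by
    rw [k1]; exact ⟨h1V, subset_closure rfl⟩
  rw [basicOpen_phi] at m1
  have m2 : η₂ ∈ ((Y.basicOpen (phi f U e') : Y.Opens) : Set Y) := by
    rw [basicOpen_phi]
    show f.toNormalization η₂ ∈ f.normalization.basicOpen e'
    rw [← h]
    exact m1
  rw [k1] at m2
  exact eq_of_specializes_generic h₂ (specializes_iff_mem_closure.mpr m2.2)

/-- the irreducible components of the normalization are locally finite -/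
theorem locallyFinite_components
    (hfin : LocallyFinite (fun Z : ↥(irreducibleComponents ↥Y) => (Z : Set ↥Y))) :
    LocallyFinite (fun Z : ↥(irreducibleComponents ↥f.normalization) =>
      (Z : Set ↥f.normalization)) := by
  intro x'
  obtain ⟨U, hU, hxU, -⟩ := exists_isAffineOpen_mem_and_subset
    (x := f.fromNormalization x') (U := ⊤) trivial
  let W' : f.normalization.Opens := f.fromNormalization ⁻¹ᵁ U
  have hW' : IsAffineOpen W' := hU.preimage f.fromNormalization
  refine ⟨W', W'.isOpen.mem_nhds hxU, ?_⟩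
  have hVc : IsCompact ((f.toNormalization ⁻¹ᵁ W' : Y.Opens) : Set Y) :=
    f.toNormalization.isCompact_preimage hW'.isCompact
  set S := {i : ↥(irreducibleComponents ↥Y) |
    ((i : Set Y) ∩ ((f.toNormalization ⁻¹ᵁ W' : Y.Opens) : Set Y)).Nonempty} with hS
  have hSfin : S.Finite := hfin.finite_nonempty_inter_compact hVc
  have himfin : ((fun i : ↥(irreducibleComponents ↥Y) =>
      closure (f.toNormalization '' (i : Set Y))) '' S).Finite := hSfin.image _
  have hsub : {i' : ↥(irreducibleComponents ↥f.normalization) |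
      ((i' : Set f.normalization) ∩ W').Nonempty} ⊆ Subtype.val ⁻¹'
      ((fun i : ↥(irreducibleComponents ↥Y) =>
        closure (f.toNormalization '' (i : Set Y))) '' S) := by
    rintro i' ⟨z, hzi, hzW⟩
    obtain ⟨g', hg'⟩ := exists_generic_of_mem_irreducibleComponents i'.2
    have hg'z : g' ⤳ z := by rw [specializes_iff_mem_closure, hg']; exact hzi
    have hg'W : g' ∈ W' := hg'z.mem_open W'.isOpen hzW
    obtain ⟨η, hη, hιη⟩ := exists_generic_lift f hfin g' (by rw [hg']; exact i'.2)
    refine ⟨⟨closure {η}, hη⟩, ⟨η, subset_closure rfl, ?_⟩, ?_⟩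
    · show f.toNormalization η ∈ W'
      rw [hιη]; exact hg'W
    · show closure (f.toNormalization '' closure ({η} : Set Y)) = i'.1
      rw [closure_image_closure, hιη, hg']
  exact (himfin.preimage (Set.injOn_of_injective Subtype.val_injective)).subset hsub


/-- the normalization is normal -/
theorem normal (hY : Pi1.IsNormalScheme Y)
    (hfin : LocallyFinite (fun Z : ↥(irreducibleComponents ↥Y) => (Z : Set ↥Y))) :
    Pi1.IsNormalScheme f.normalization := by
  intro x'
  obtain ⟨U, hU, hxU, -⟩ := exists_isAffineOpen_mem_and_subset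
    (x := f.fromNormalization x') (U := ⊤) trivial
  obtain ⟨g', hg', hsp⟩ := exists_generic_specializes x'
  obtain ⟨η, hη, hιη⟩ := exists_generic_lift f hfin g' hg'
  have hx'W : x' ∈ f.fromNormalization ⁻¹ᵁ U := hxU
  have hg'W : g' ∈ f.fromNormalization ⁻¹ᵁ U :=
    hsp.mem_open (f.fromNormalization ⁻¹ᵁ U).isOpen hx'W
  have hηV : η ∈ f ⁻¹ᵁ U := by rw [mem_preimage_iff, hιη]; exact hg'W
  obtain ⟨e', hee, h1, h2, hres, hker, hsurj⟩ := key f hY hfin hU η hη
  have hxe : x' ∈ f.normalization.basicOpen e' :=
    mem_basicOpen_of_specializes f η hηV e' h2 x' hx'W (by rw [hιη]; exact hsp)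
  have hW' : IsAffineOpen (f.fromNormalization ⁻¹ᵁ U) := hU.preimage f.fromNormalization
  have hW₁ : IsAffineOpen (f.normalization.basicOpen e') := hW'.basicOpen e'
  have hO : Y.basicOpen (phi f U e') = f.toNormalization ⁻¹ᵁ (f.normalization.basicOpen e') :=
    basicOpen_phi f U e'
  let φ₁ : Γ(f.normalization, f.normalization.basicOpen e') →+* Γ(Y, Y.basicOpen (phi f U e')) :=
    (f.toNormalization.appLE (f.normalization.basicOpen e') (Y.basicOpen (phi f U e')) hO.le).hom
  let ρ' : Γ(f.normalization, f.fromNormalization ⁻¹ᵁ U) →+*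
      Γ(f.normalization, f.normalization.basicOpen e') :=
    (f.normalization.presheaf.map (homOfLE (f.normalization.basicOpen_le e')).op).hom
  let ρ : Γ(Y, f ⁻¹ᵁ U) →+* Γ(Y, Y.basicOpen (phi f U e')) :=
    (Y.presheaf.map (homOfLE (Y.basicOpen_le (phi f U e'))).op).hom
  have hcomm : φ₁.comp ρ' = ρ.comp (phi f U) := by
    have l : f.normalization.presheaf.map (homOfLE (f.normalization.basicOpen_le e')).op ≫
        f.toNormalization.appLE (f.normalization.basicOpen e') (Y.basicOpen (phi f U e')) hO.le =
        f.toNormalization.appLE (f.fromNormalization ⁻¹ᵁ U) (Y.basicOpen (phi f U e'))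
          ((Y.basicOpen_le _).trans (toNormalization_preimage_le f U)) :=
      Scheme.Hom.map_appLE _ _ _
    have r : f.toNormalization.appLE (f.fromNormalization ⁻¹ᵁ U) (f ⁻¹ᵁ U)
        (toNormalization_preimage_le f U) ≫
        Y.presheaf.map (homOfLE (Y.basicOpen_le (phi f U e'))).op =
        f.toNormalization.appLE (f.fromNormalization ⁻¹ᵁ U) (Y.basicOpen (phi f U e'))
          ((Y.basicOpen_le _).trans (toNormalization_preimage_le f U)) :=
      Scheme.Hom.appLE_map _ _ _
    exact congrArg CommRingCat.Hom.hom (l.trans r.symm)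
  have hφα : (phi f U).comp (f.fromNormalization.app U).hom = (f.app U).hom :=
    RingHom.ext fun a => fromNormalization_app_toNormalization_appLE f hU a
  have hlift : ∀ b : Γ(Y, f ⁻¹ᵁ U),
      ((phi f U).comp (f.fromNormalization.app U).hom).IsIntegralElem b →
        ∃ a', phi f U a' = b := by
    intro b hb
    rw [hφα] at hb
    exact exists_section_normalization_of_isIntegral f hU b hb
  have h3 : (f.fromNormalization.app U).hom.IsIntegral :=
    IsIntegralHom.isIntegral_app f.fromNormalization U hU
  -- the restriction on the normalization is surjective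
  have hbot' : f.normalization.basicOpen e' ⊓ f.normalization.basicOpen (1 - e') = ⊥ := by
    rw [← Scheme.basicOpen_mul, mul_sub, mul_one, hee, sub_self, Scheme.basicOpen_zero]
  have hcov' : f.fromNormalization ⁻¹ᵁ U ≤
      f.normalization.basicOpen e' ⊔ f.normalization.basicOpen (1 - e') := by
    have hsum := f.normalization.basicOpen_add_le e' (1 - e')
    rwa [add_sub_cancel, Scheme.basicOpen_one] at hsum
  have h5a : Function.Surjective ρ' := by
    intro c
    obtain ⟨b, hb, -⟩ := exists_glue f.normalization (f.fromNormalization ⁻¹ᵁ U)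
      (f.normalization.basicOpen e') (f.normalization.basicOpen (1 - e'))
      (f.normalization.basicOpen_le e') (f.normalization.basicOpen_le (1 - e')) hbot' hcov' c 0
    exact ⟨b, hb⟩
  have h5c : ρ' e' = 1 := by
    have hu : IsUnit (ρ' e') := RingedSpace.isUnit_res_basicOpen _ e'
    exact hu.mul_left_cancel (by rw [mul_one, ← map_mul, hee])
  obtain ⟨hinj₁, hlift₁⟩ := alg1 (f.fromNormalization.app U).hom (phi f U) ρ' ρ φ₁ hcomm e' hee
    (phi_injective f hU) hlift h3 h5a h5c hsurj hker hres
  -- the field
  have hne : ((Y.basicOpen (phi f U e') : Y.Opens) : Set Y).Nonempty := by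
    rw [h1]; exact ⟨η, hηV, subset_closure rfl⟩
  have hirr : IsPreirreducible ((Y.basicOpen (phi f U e') : Y.Opens) : Set Y) := by
    refine (isIrreducible_singleton (x := η)).closure.isPreirreducible.open_subset
      (Y.basicOpen (phi f U e')).isOpen ?_
    rw [h1]; exact Set.inter_subset_right
  obtain ⟨K, _, γ, hγinj, hγcl⟩ := exists_field_embedding hY (Y.basicOpen (phi f U e')) hne hirr
  obtain ⟨hdom, hic⟩ := alg2 φ₁ γ hinj₁ hγinj hγcl hlift₁
  letI algN := f.normalization.presheaf.algebra_section_stalk
    (U := f.normalization.basicOpen e') ⟨x', hxe⟩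
  haveI hloc : IsLocalization.AtPrime (f.normalization.presheaf.stalk x')
      (hW₁.primeIdealOf ⟨x', hxe⟩).asIdeal := hW₁.isLocalization_stalk ⟨x', hxe⟩
  refine ⟨?_, ?_⟩
  · exact IsLocalization.isDomain_of_le_nonZeroDivisors _
      (Ideal.primeCompl_le_nonZeroDivisors (hW₁.primeIdealOf ⟨x', hxe⟩).asIdeal)
  · exact isIntegrallyClosed_of_isLocalization (f.normalization.presheaf.stalk x')
      (hW₁.primeIdealOf ⟨x', hxe⟩).asIdeal.primeCompl
      (Ideal.primeCompl_le_nonZeroDivisors _)


theorem S9673_main (hY : Pi1.IsNormalScheme Y)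
    (hfin : LocallyFinite (fun Z : ↥(irreducibleComponents ↥Y) => (Z : Set ↥Y))) :
    Pi1.IsNormalScheme f.normalization ∧
    LocallyFinite (fun Z : ↥(irreducibleComponents ↥f.normalization) =>
      (Z : Set ↥f.normalization)) ∧
    (∀ y : Y, closure {y} ∈ irreducibleComponents ↥Y →
      closure {f.toNormalization.base y} ∈ irreducibleComponents ↥f.normalization) ∧
    (∀ x' : ↥f.normalization, closure {x'} ∈ irreducibleComponents ↥f.normalization →
      ∃! y : Y, closure {y} ∈ irreducibleComponents ↥Y ∧ f.toNormalization.base y = x') := by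
  refine ⟨normal f hY hfin, locallyFinite_components f hfin,
    fun y hy => generic_map f hY hfin y hy, fun x' hx' => ?_⟩
  obtain ⟨η, hη, hιη⟩ := exists_generic_lift f hfin x' hx'
  refine ⟨η, ⟨hη, hιη⟩, ?_⟩
  rintro y ⟨hy, hιy⟩
  exact generic_unique f hY hfin y η hy hη (hιy.trans hιη.symm)

end Local

end Groth.Agent.Helper2.NormY
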